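import Groth.Agent.FlatMor.SmoothCartier
import Mathlib.Algebra.Module.Submodule.Union
import Mathlib.RingTheory.Unramified.Finite
import Mathlib.RingTheory.Jacobson.Ring
import Mathlib.RingTheory.Smooth.Basic

/-!
# Functions with nonzero differential near finitely many generisations
-/

set_option autoImplicit false
universe u

open TensorProduct

namespace Groth.Agent.Mov16366

/-- Differentials of a non-maximal local ring of a finite type algebra are nonzero. -/
theorem kaehler_ne_zero {k A L : Type u} [Field k] [CommRing A] [Algebra k A] [Algebra.FiniteType k A]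
    (p : Ideal A) [p.IsPrime] (hp : ¬ p.IsMaximal) [CommRing L] [Algebra A L] [Algebra k L]
    [IsScalarTower k A L] [IsLocalization.AtPrime L p] [IsLocalRing L] :
    ¬ Subsingleton Ω[L⁄k] := by
  intro h
  haveI : Algebra.EssFiniteType A L := Algebra.EssFiniteType.of_isLocalization L p.primeCompl
  haveI : Algebra.EssFiniteType k L := Algebra.EssFiniteType.comp k A L
  haveI : Algebra.FormallyUnramified k L := ⟨h⟩
  haveI : Module.Finite k L := Algebra.FormallyUnramified.finite_of_free k L
  let ψ : A →ₐ[k] IsLocalRing.ResidueField L :=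
    (IsScalarTower.toAlgHom k L (IsLocalRing.ResidueField L)).comp (IsScalarTower.toAlgHom k A L)
  have hker : RingHom.ker ψ.toRingHom = p := by
    ext a
    show IsLocalRing.residue L (algebraMap A L a) = 0 ↔ a ∈ p
    rw [IsLocalRing.residue_eq_zero_iff, IsLocalization.AtPrime.to_map_mem_maximal_iff L p a]
  haveI : Algebra.IsAlgebraic k (IsLocalRing.ResidueField L) :=
    Algebra.IsAlgebraic.of_finite k _
  have hf : IsField ψ.range := Subalgebra.isField_of_algebraic _
  refine hp (hker ▸ ?_)
  have e := RingHom.quotientKerEquivRange ψ.toRingHom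
  refine Ideal.Quotient.maximal_of_isField _ ?_
  exact MulEquiv.isField hf e.toMulEquiv

/-- Some multiple, by a unit at a closed specialisation, of a function invertible at finitely many
non-closed points has nonzero differential at each of them. -/
theorem exists_unit_multiple {k A : Type u} [Field k] [Infinite k] [CommRing A] [Algebra k A]
    [Algebra.FiniteType k A] (u : A) (P : Ideal A) [P.IsPrime] (huP : u ∈ P) {ι : Type} [Finite ι]
    (p : ι → Ideal A) [∀ i, (p i).IsPrime] (hp : ∀ i, p i ≤ P) (hu : ∀ i, u ∉ p i)
    (L : ι → Type u) [∀ i, CommRing (L i)] [∀ i, Algebra A (L i)] [∀ i, Algebra k (L i)]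
    [∀ i, IsScalarTower k A (L i)] [∀ i, IsLocalization.AtPrime (L i) (p i)] [∀ i, IsLocalRing (L i)] :
    ∃ e ∉ P, ∀ i, (1 : IsLocalRing.ResidueField (L i)) ⊗ₜ[L i]
      KaehlerDifferential.D k (L i) (algebraMap A (L i) (e * u)) ≠ 0 := by
  let Φ : ∀ i, A →ₗ[k] IsLocalRing.ResidueField (L i) ⊗[L i] Ω[L i⁄k] := fun i =>
    (((TensorProduct.mk (L i) (IsLocalRing.ResidueField (L i)) Ω[L i⁄k] 1).restrictScalars k).comp
      (KaehlerDifferential.D k (L i)).toLinearMap).comp
      ((IsScalarTower.toAlgHom k A (L i)).toLinearMap.comp (LinearMap.mulRight k u))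
  let M : Option ι → Submodule k A := fun o => o.elim (P.restrictScalars k) fun i => LinearMap.ker (Φ i)
  have hM : ∀ o, M o ≠ ⊤ := by
    rintro (_ | i) h
    · exact ‹P.IsPrime›.ne_top ((Ideal.eq_top_iff_one P).2
        (show (1 : A) ∈ M none from h ▸ Submodule.mem_top))
    · have h0 : ∀ a : A, Φ i a = 0 := fun a =>
        LinearMap.mem_ker.1 (show a ∈ M (some i) from h ▸ Submodule.mem_top)
      have hone : (1 : IsLocalRing.ResidueField (L i)) ⊗ₜ[L i]
          KaehlerDifferential.D k (L i) (algebraMap A (L i) u) = 0 := by
        have := h0 1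
        simpa [Φ] using this
      obtain ⟨v, hv⟩ : IsUnit (algebraMap A (L i) u) :=
        IsLocalization.map_units (L i) (⟨u, hu i⟩ : (p i).primeCompl)
      have hD : ∀ a : A, (1 : IsLocalRing.ResidueField (L i)) ⊗ₜ[L i]
          KaehlerDifferential.D k (L i) (algebraMap A (L i) a) = 0 := fun a => by
        have := h0 a
        simp only [Φ, LinearMap.comp_apply, LinearMap.mulRight_apply, AlgHom.toLinearMap_apply,
          IsScalarTower.coe_toAlgHom', map_mul, LinearMap.restrictScalars_apply,
          TensorProduct.mk_apply] at this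
        rw [Derivation.coeFn_coe, Derivation.leibniz, TensorProduct.tmul_add, TensorProduct.tmul_smul,
          hone, smul_zero, zero_add, TensorProduct.tmul_smul, ← hv] at this
        exact v.isUnit.smul_eq_zero.1 this
      have hpm : ¬ (p i).IsMaximal := fun hm =>
        hu i (by rw [hm.eq_of_le ‹P.IsPrime›.ne_top (hp i)]; exact huP)
      haveI : Algebra.EssFiniteType A (L i) :=
        Algebra.EssFiniteType.of_isLocalization _ (p i).primeCompl
      haveI : Algebra.EssFiniteType k (L i) := Algebra.EssFiniteType.comp k A (L i)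
      refine kaehler_ne_zero (k := k) (p i) hpm (L := L i) ?_
      rw [← IsLocalRing.subsingleton_tensorProduct (R := L i)]
      refine subsingleton_of_forall_eq 0 fun z => ?_
      induction z with
      | zero => rfl
      | add x y hx hy => rw [hx, hy, add_zero]
      | tmul c ω =>
        obtain ⟨c, rfl⟩ := IsLocalRing.residue_surjective c
        rw [show IsLocalRing.residue (L i) c = c • (1 : IsLocalRing.ResidueField (L i)) by
          rw [Algebra.smul_def, mul_one]; rfl, ← TensorProduct.smul_tmul']
        suffices h1 : (1 : IsLocalRing.ResidueField (L i)) ⊗ₜ[L i] ω = 0 by rw [h1, smul_zero]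
        have hω : ω ∈ Submodule.span (L i) (Set.range fun a : A =>
            KaehlerDifferential.D k (L i) (algebraMap A (L i) a)) := by
          suffices h2 : Submodule.span (L i) (Set.range fun a : A =>
              KaehlerDifferential.D k (L i) (algebraMap A (L i) a)) = ⊤ by rw [h2]; trivial
          refine (congrArg (fun s => Submodule.span (L i) (Set.range s)) (funext fun a => ?_)).trans
            (KaehlerDifferential.span_range_map_derivation_of_isLocalization k A (L i) (p i).primeCompl)
          exact (KaehlerDifferential.map_D k k A (L i) a).symm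
        induction hω using Submodule.span_induction with
        | mem x hx => obtain ⟨a, rfl⟩ := hx; exact hD a
        | zero => rw [TensorProduct.tmul_zero]
        | add x y _ _ hx hy => rw [TensorProduct.tmul_add, hx, hy, add_zero]
        | smul r x _ hx => rw [TensorProduct.tmul_smul, hx, smul_zero]
  obtain ⟨e, he⟩ := Submodule.exists_forall_notMem_of_forall_ne_top M hM
  refine ⟨e, he none, fun i h => he (some i) ?_⟩
  show e ∈ LinearMap.ker (Φ i)
  rw [LinearMap.mem_ker]
  simpa [Φ] using h

/-- A function with nonzero differential gives, locally, a smooth map to the affine line. -/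
theorem exists_smooth_eval {k B L : Type u} [Field k] [CommRing B] [Algebra k B] [Algebra.Smooth k B]
    (q : Ideal B) [q.IsPrime] [CommRing L] [Algebra B L] [Algebra k L] [IsScalarTower k B L]
    [IsLocalization.AtPrime L q] [IsLocalRing L] (h : B)
    (hd : (1 : IsLocalRing.ResidueField L) ⊗ₜ[L] KaehlerDifferential.D k L (algebraMap B L h) ≠ 0) :
    ∃ s ∉ q, ((algebraMap B (Localization.Away s)).comp
      (Polynomial.eval₂RingHom (algebraMap k B) h)).Smooth := by
  classical
  obtain ⟨σ, _, g, i₀, s, hgi, hs, het⟩ :=
    Groth.Agent.FlatMor.SmoothCartier.exists_coordinates (L := L) q h hd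
  refine ⟨s, hs, ?_⟩
  let Φ : MvPolynomial σ k →+* Localization.Away s :=
    (algebraMap B (Localization.Away s)).comp (MvPolynomial.aeval (R := k) g).toRingHom
  have hΦ : Φ.Smooth := by
    letI := Φ.toAlgebra
    haveI : Algebra.Etale (MvPolynomial σ k) (Localization.Away s) := het
    exact RingHom.smooth_algebraMap.2 inferInstance
  let τ := {i : σ // i ≠ i₀}
  let e : MvPolynomial σ k ≃ₐ[k] MvPolynomial τ (Polynomial k) :=
    (MvPolynomial.renameEquiv k (Equiv.optionSubtypeNe i₀).symm).trans
      (MvPolynomial.optionEquivRight k τ)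
  have he : e (MvPolynomial.X i₀) = MvPolynomial.C Polynomial.X := by simp [e, τ]
  have hC : (algebraMap (Polynomial k) (MvPolynomial τ (Polynomial k))).Smooth :=
    RingHom.smooth_algebraMap.2 ⟨inferInstance, inferInstance⟩
  have hsymm : (e.symm.toRingEquiv : MvPolynomial τ (Polynomial k) →+* MvPolynomial σ k).Smooth :=
    RingHom.Smooth.of_bijective e.symm.bijective
  convert (hC.comp hsymm).comp hΦ using 1
  refine Polynomial.ringHom_ext (fun c => ?_) ?_
  · have hc : e.symm (MvPolynomial.C (Polynomial.C c)) = MvPolynomial.C c := by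
      rw [show MvPolynomial.C (Polynomial.C c) = algebraMap k (MvPolynomial τ (Polynomial k)) c from rfl,
        e.symm.commutes, MvPolynomial.algebraMap_eq]
    simp only [RingHom.comp_apply, Polynomial.coe_eval₂RingHom, Polynomial.eval₂_C,
      MvPolynomial.algebraMap_eq]
    show _ = Φ (e.symm (MvPolynomial.C (Polynomial.C c)))
    rw [hc]
    show _ = algebraMap B _ (MvPolynomial.aeval g (MvPolynomial.C c))
    rw [MvPolynomial.aeval_C]
  · simp only [RingHom.comp_apply, Polynomial.coe_eval₂RingHom, Polynomial.eval₂_X,
      MvPolynomial.algebraMap_eq]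
    show _ = Φ (e.symm (MvPolynomial.C Polynomial.X))
    rw [← he, AlgEquiv.symm_apply_apply]
    show _ = algebraMap B _ (MvPolynomial.aeval g (MvPolynomial.X i₀))
    rw [MvPolynomial.aeval_X, hgi]

end Groth.Agent.Mov16366
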